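import Groth.Agent.AlgSpGsectInt.Core
import Groth.Prelude.Def_AlgSp4

/-!
Integrality of global sections of a space universally closed over an affine scheme.
-/

set_option autoImplicit false
set_option backward.isDefEq.respectTransparency.types false

universe u

open CategoryTheory CategoryTheory.Limits AlgebraicGeometry Opposite AlgSp Topology

namespace Groth.Agent.AlgSpGsectInt

open Groth.Agent.AlgSpLib Groth.Agent.AlgSpUnivClosed

variable {S : Scheme.{u}}

/-- Pullback of functions along a surjective flat morphism is injective. -/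
theorem appTop_injective_of_flat {Z W : Scheme.{u}} (h : Z ⟶ W) [Flat h] [Surjective h] :
    Function.Injective h.appTop := by
  haveI : Epi h := Flat.epi_of_flat_of_surjective h
  haveI : Scheme.Γ.rightOp.IsLeftAdjoint := ΓSpec.adjunction.isLeftAdjoint
  haveI : Epi (Scheme.Γ.rightOp.map h) := inferInstance
  haveI : Mono h.appTop := unop_mono_of_epi (Scheme.Γ.rightOp.map h)
  exact (ConcreteCategory.mono_iff_injective_of_preservesPullback h.appTop).1 inferInstance

/-- The component of a global section of the structure sheaf. -/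
noncomputable def comp {X : Sp S} (s : ↥(AlgSp.gsectEt (AlgSp.OEt X) : CommRingCat.{u + 1})) (E : EtOver X) :
    Γ(E.obj.left.left, ⊤) :=
  ((limit.π (AlgSp.OEt X).obj (op E)) s).down

theorem comp_map {X : Sp S} (s : ↥(AlgSp.gsectEt (AlgSp.OEt X) : CommRingCat.{u + 1})) {E E' : EtOver X}
    (g : E ⟶ E') : g.hom.left.left.appTop (comp s E') = comp s E := by
  have h := ConcreteCategory.congr_hom (limit.w (AlgSp.OEt X).obj g.op) s
  simp only [CommRingCat.comp_apply] at h
  exact congrArg ULift.down h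

/-- Every global section satisfies a monic equation over the base. -/
theorem exists_monic (V : Over S) [IsAffine V.left] {X : Sp S} (hX : IsAlgSpace X)
    (f : X ⟶ (yon S).obj V) (hqc : IsQuasiCompactMor f) (huc : IsUnivClosedMor f)
    (s : ↥(AlgSp.gsectEt (AlgSp.OEt X) : CommRingCat.{u + 1})) :
    ∃ q : Polynomial Γ(V.left, ⊤), q.Monic ∧ ∀ E : EtOver X,
      Polynomial.eval₂ ((yon S).preimage (E.obj.hom ≫ f)).left.appTop.hom (comp s E) q = 0 := by
  let R : Type u := Γ(V.left, ⊤)
  let r : Spec (CommRingCat.of R) ⟶ S := V.left.isoSpec.inv ≫ V.hom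
  let jo : Over.mk r ≅ V := Over.isoMk V.left.isoSpec.symm rfl
  let c : (yon S).obj (Over.mk r) ≅ (yon S).obj V := (yon S).mapIso jo
  let f' : X ⟶ (yon S).obj (Over.mk r) := f ≫ c.inv
  obtain ⟨W, w, hW, hw, hws⟩ := (isQuasiCompactSp_iff_affine hX).1 (hqc (IsAlgSpace.yon_obj V)
    ((isQuasiCompactSp_iff_affine (IsAlgSpace.yon_obj V)).2 ⟨V, 𝟙 _, inferInstance, repWith_id _ _, repWith_id _ _⟩)
    (𝟙 _) (𝟙 _) f (IsPullback.of_horiz_isIso ⟨by rw [Category.id_comp, Category.comp_id]⟩))
  obtain ⟨k, hk⟩ := (yon S).map_surjective (w ≫ f')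
  haveI : IsAffine W.left := hW
  let φ : CommRingCat.of R ⟶ Γ(W.left, ⊤) := Spec.preimage (W.left.isoSpec.inv ≫ k.left)
  let B : Type u := Γ(W.left, ⊤)
  letI : Algebra R B := φ.hom.toAlgebra
  have hφ : Spec.map (CommRingCat.ofHom (algebraMap R B)) = W.left.isoSpec.inv ≫ k.left := Spec.map_preimage _
  let eW : algObj r B ⟶ W := Over.homMk W.left.isoSpec.inv (by
    show W.left.isoSpec.inv ≫ W.hom = Spec.map _ ≫ r
    rw [hφ, Category.assoc]
    congr 1
    exact (Over.w k).symm)
  haveI : IsIso eW.left := inferInstanceAs (IsIso W.left.isoSpec.inv)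
  let p := (yon S).map eW ≫ w
  have hp : RepWith @Etale p := repWith_yon_comp eW (inferInstance : Etale eW.left) hw
  have hps : RepWith @Surjective p := repWith_yon_comp eW (inferInstance : Surjective eW.left) hws
  have hpf : p ≫ f' = (yon S).map (toBase r B) := by
    rw [Category.assoc, ← hk, ← Functor.map_comp]
    congr 1
    exact Over.OverMorphism.ext hφ.symm
  have huc' : SndClosed f' ((yon S).map (toBase r (Polynomial R))) := by
    have sq := IsPullback.of_hasPullback f' ((yon S).map (toBase r (Polynomial R)))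
    refine sndClosed_of_isPullback sq (huc (IsAlgSpace.yon_obj _)
      ((yon S).map (toBase r (Polynomial R)) ≫ c.hom) (pullback.fst _ _) (pullback.snd _ _) ?_)
    exact sq.of_iso (Iso.refl _) (Iso.refl _) (Iso.refl _) c (by simp) (by simp) (by simp [f']) (by simp)
  let E₀ : EtOver X := EtOver.mk p hp
  obtain ⟨q, hq, hq0⟩ := exists_monic_chart r f' p hp hps hpf huc' (comp s E₀) (fun {P} x y hxy => by
    obtain ⟨Q, x₀, y₀, sqQ⟩ := exists_isPullback hp.1 p
    obtain ⟨l, hl⟩ := (yon S).map_surjective (sqQ.lift _ _ hxy)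
    let E₁ : EtOver X := EtOver.mk ((yon S).map x₀ ≫ p)
      (repWith_yon_comp x₀ (hp.2 p _ x₀ sqQ.flip) hp)
    let gx : E₁ ⟶ E₀ := EtOver.homMk x₀ rfl
    let gy : E₁ ⟶ E₀ := EtOver.homMk y₀ sqQ.w.symm
    have ex : x = l ≫ x₀ := (yon S).map_injective (by rw [Functor.map_comp, hl, sqQ.lift_fst])
    have ey : y = l ≫ y₀ := (yon S).map_injective (by rw [Functor.map_comp, hl, sqQ.lift_snd])
    rw [ex, ey]
    exact congrArg l.left.appTop ((comp_map s gx).trans (comp_map s gy).symm))
  refine ⟨q, hq, fun E => ?_⟩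
  obtain ⟨Q, a, b, sqQ⟩ := exists_isPullback hp.1 E.obj.hom
  have hb : Etale b.left := hp.2 E.obj.hom _ b sqQ
  have hbs : Surjective b.left := hps.2 E.obj.hom _ b sqQ
  let E₁ : EtOver X := EtOver.mk ((yon S).map b ≫ E.obj.hom) (repWith_yon_comp b hb E.property)
  let ga : E₁ ⟶ E₀ := EtOver.homMk a sqQ.w
  let gb : E₁ ⟶ E := EtOver.homMk b rfl
  haveI : Flat b.left := inferInstance
  refine appTop_injective_of_flat b.left (Eq.trans ?_ (map_zero b.left.appTop.hom).symm)
  rw [Polynomial.hom_eval₂]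
  have e1 : b.left.appTop.hom (comp s E) = a.left.appTop.hom (comp s E₀) :=
    (comp_map s gb).trans (comp_map s ga).symm
  obtain ⟨m, hm⟩ : ∃ m, m = (yon S).preimage (E.obj.hom ≫ f) := ⟨_, rfl⟩
  have e2 : b ≫ m = a ≫ toBase r B ≫ jo.hom := (yon S).map_injective (by
    rw [Functor.map_comp, Functor.map_comp, Functor.map_comp, hm, Functor.map_preimage, ← hpf]
    have := sqQ.w
    rw [← reassoc_of% this]
    simp [f', c])
  have e3 : b.left.appTop.hom.comp m.left.appTop.hom =
      (a.left.appTop.hom.comp (Scheme.ΓSpecIso (CommRingCat.of B)).inv.hom).comp (algebraMap R B) := by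
    have h := congrArg (fun k => k.left.appTop) e2
    simp only [Over.comp_left, Scheme.Hom.comp_appTop] at h
    have h2 : jo.hom.left.appTop ≫ (toBase r B).left.appTop =
        CommRingCat.ofHom (algebraMap R B) ≫ (Scheme.ΓSpecIso (CommRingCat.of B)).inv := by
      rw [Scheme.ΓSpecIso_inv_naturality]
      congr 1
      show V.left.isoSpec.inv.appTop = (Scheme.ΓSpecIso (CommRingCat.of R)).inv
      simp [Scheme.isoSpec, Scheme.toSpecΓ_appTop]
      rfl
    rw [h2] at h
    exact congrArg CommRingCat.Hom.hom h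
  rw [← hm, e3, e1]
  let ψ : B →+* Γ(E₁.obj.left.left, ⊤) := a.left.appTop.hom.comp (Scheme.ΓSpecIso (CommRingCat.of B)).inv.hom
  have hid : a.left.appTop.hom (comp s E₀) = ψ ((Scheme.ΓSpecIso (CommRingCat.of B)).hom (comp s E₀)) :=
    congrArg a.left.appTop.hom
      (ConcreteCategory.congr_hom (Scheme.ΓSpecIso (CommRingCat.of B)).hom_inv_id (comp s E₀)).symm
  rw [hid]
  exact (Polynomial.hom_eval₂ q (algebraMap R B) ψ _).symm.trans ((congrArg ψ hq0).trans (map_zero ψ))

end Groth.Agent.AlgSpGsectInt
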