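import Groth.Agent.AlgSpUnivClosed.Affine
import Groth.Prelude.Def_AlgSpOX
import Mathlib.Algebra.Polynomial.Reverse
import Mathlib.RingTheory.TensorProduct.Basic
import Mathlib.AlgebraicGeometry.Morphisms.Flat

/-!
Global sections of a space universally closed over an affine scheme are integral.
-/

set_option autoImplicit false
set_option backward.isDefEq.respectTransparency.types false

universe u

open CategoryTheory CategoryTheory.Limits AlgebraicGeometry Opposite AlgSp Topology TensorProduct

namespace Groth.Agent.AlgSpGsectInt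

open Groth.Agent.AlgSpLib Groth.Agent.AlgSpUnivClosed

variable {S : Scheme.{u}}

/-- A polynomial congruent to one modulo the variable that vanishes at the inverse of `b` gives a monic equation
for `b`. -/
theorem exists_monic_of_inverse {R B : Type u} [CommRing R] [CommRing B] (φ : R →+* B) (b : B)
    (f : Polynomial R) (h0 : f.coeff 0 = 1) (Bb : Type u) [CommRing Bb] [Algebra B Bb] [IsLocalization.Away b Bb]
    (hf : Polynomial.eval₂ ((algebraMap B Bb).comp φ) (IsLocalization.Away.invSelf (S := Bb) b) f = 0) :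
    ∃ p : Polynomial R, p.Monic ∧ Polynomial.eval₂ φ b p = 0 := by
  classical
  have hinv : algebraMap B Bb b * IsLocalization.Away.invSelf (S := Bb) b = 1 :=
    IsLocalization.Away.mul_invSelf b
  letI : Invertible (IsLocalization.Away.invSelf (S := Bb) b) := ⟨algebraMap B Bb b, hinv, by rw [mul_comm, hinv]⟩
  have h := Polynomial.eval₂_reflect_mul_pow ((algebraMap B Bb).comp φ)
    (IsLocalization.Away.invSelf (S := Bb) b) f.natDegree f le_rfl
  rw [hf] at h
  have h' : Polynomial.eval₂ ((algebraMap B Bb).comp φ) (algebraMap B Bb b) (Polynomial.reflect f.natDegree f) = 0 :=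
    ((isUnit_of_invertible (IsLocalization.Away.invSelf (S := Bb) b)).pow f.natDegree).mul_left_eq_zero.1 h
  rw [← Polynomial.hom_eval₂, IsLocalization.map_eq_zero_iff (Submonoid.powers b)] at h'
  obtain ⟨⟨_, m, rfl⟩, hm⟩ := h'
  refine ⟨Polynomial.X ^ m * Polynomial.reflect f.natDegree f,
    (Polynomial.monic_X_pow m).mul (Polynomial.monic_of_natDegree_le_of_coeff_eq_one f.natDegree ?_ ?_), ?_⟩
  · rw [Polynomial.natDegree_le_iff_coeff_eq_zero]
    intro i hi
    rw [Polynomial.coeff_reflect, Polynomial.revAt_eq_self_of_lt hi, Polynomial.coeff_eq_zero_of_natDegree_lt hi]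
  · rw [Polynomial.coeff_reflect, Polynomial.revAt_le le_rfl, Nat.sub_self, h0]
  · rw [Polynomial.eval₂_mul, Polynomial.eval₂_X_pow]
    exact hm

/-- The monic equation on a chart. -/
theorem exists_monic_chart {R : Type u} [CommRing R] (r : Spec (CommRingCat.of R) ⟶ S) {X : Sp S}
    (f : X ⟶ (yon S).obj (Over.mk r)) {B : Type u} [CommRing B] [Algebra R B]
    (p : (yon S).obj (algObj r B) ⟶ X) (hp : RepWith @Etale p) (hps : RepWith @Surjective p)
    (hpf : p ≫ f = (yon S).map (toBase r B))
    (huc : SndClosed f ((yon S).map (toBase r (Polynomial R)))) (b : Γ(Spec (CommRingCat.of B), ⊤))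
    (hb : ∀ {P : Over S} (x y : P ⟶ algObj r B), (yon S).map x ≫ p = (yon S).map y ≫ p →
      x.left.appTop b = y.left.appTop b) :
    ∃ q : Polynomial R, q.Monic ∧
      Polynomial.eval₂ (algebraMap R B) ((Scheme.ΓSpecIso (CommRingCat.of B)).hom b) q = 0 := by
  let b₀ : B := (Scheme.ΓSpecIso (CommRingCat.of B)).hom b
  let D := Polynomial R
  let g := (yon S).map (toBase r D)
  let T := B ⊗[R] D
  let iL : B →ₐ[R] T := Algebra.TensorProduct.includeLeft
  let iR : D →ₐ[R] T := Algebra.TensorProduct.includeRight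
  let e : (yon S).obj (algObj r T) ⟶ pullback f g :=
    pullback.lift ((yon S).map (algMap r B iL) ≫ p) ((yon S).map (algMap r D iR))
      (by rw [Category.assoc, hpf, ← Functor.map_comp, ← Functor.map_comp, algMap_toBase, algMap_toBase])
  have he₂ : e ≫ pullback.snd f g = (yon S).map (algMap r D iR) := pullback.lift_snd _ _ _
  have sq : IsPullback ((yon S).map (algMap r B iL)) e p (pullback.fst f g) := by
    refine IsPullback.of_bot ?_ (pullback.lift_fst _ _ _).symm (IsPullback.of_hasPullback f g)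
    rw [he₂, hpf]
    exact yon_isPullback (isPullback_algObj r D B)
  have he : RepWith @Etale e := repWith_baseChange sq hp
  have hes : RepWith @Surjective e := repWith_baseChange sq hps
  let a : T := iR Polynomial.X * iL b₀ - 1
  let σ : Γ(Spec (CommRingCat.of T), ⊤) := (Scheme.ΓSpecIso (CommRingCat.of T)).inv a
  have key : ∀ {P : Over S} (x y : P ⟶ algObj r T), (yon S).map x ≫ e = (yon S).map y ≫ e →
      x.left.appTop σ = y.left.appTop σ := by
    intro P x y hxy
    have h1 : x ≫ algMap r D iR = y ≫ algMap r D iR := (yon S).map_injective (by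
      rw [Functor.map_comp, Functor.map_comp, ← he₂, reassoc_of% hxy])
    have h2 : (yon S).map (x ≫ algMap r B iL) ≫ p = (yon S).map (y ≫ algMap r B iL) ≫ p := by
      rw [Functor.map_comp, Functor.map_comp, Category.assoc, Category.assoc, sq.w, reassoc_of% hxy]
    have h2' := hb _ _ h2
    have h1' := congrArg (fun k : P ⟶ algObj r D => k.left.appTop ((Scheme.ΓSpecIso (CommRingCat.of D)).inv Polynomial.X)) h1
    have nat : ∀ {C : Type u} [CommRing C] [Algebra R C] (i : C →ₐ[R] T) (z : P ⟶ algObj r T) (c : C),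
        (z ≫ algMap r C i).left.appTop ((Scheme.ΓSpecIso (CommRingCat.of C)).inv c) =
          z.left.appTop ((Scheme.ΓSpecIso (CommRingCat.of T)).inv (i c)) := by
      intro C _ _ i z c
      have := ConcreteCategory.congr_hom (Scheme.ΓSpecIso_inv_naturality (CommRingCat.ofHom i.toRingHom)) c
      simp only [CommRingCat.comp_apply] at this
      exact congrArg (fun t => z.left.appTop t) this.symm
    have hb0 : b = (Scheme.ΓSpecIso (CommRingCat.of B)).inv b₀ := by
      simp [b₀]
    rw [hb0, nat, nat] at h2'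
    rw [nat, nat] at h1'
    let ψ : (P ⟶ algObj r T) → T →+* Γ(P.left, ⊤) := fun z =>
      z.left.appTop.hom.comp (Scheme.ΓSpecIso (CommRingCat.of T)).inv.hom
    have e1 : ψ x (iR Polynomial.X) = ψ y (iR Polynomial.X) := h1'
    have e2 : ψ x (iL b₀) = ψ y (iL b₀) := h2'
    show ψ x a = ψ y a
    rw [show a = iR Polynomial.X * iL b₀ - 1 from rfl, map_sub, map_sub, map_mul, map_mul, map_one,
      map_one, e1, e2]
  let Z : Set (algObj r T).left := PrimeSpectrum.zeroLocus {a}
  have hmem : ∀ {P : Over S} (x : P ⟶ algObj r T) (w : ↥P.left),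
      x.left w ∈ Z ↔ w ∉ P.left.basicOpen (x.left.appTop σ) := by
    intro P x w
    have h1 : w ∈ P.left.basicOpen (x.left.appTop σ) ↔ x.left w ∈ (Spec (CommRingCat.of T)).basicOpen σ := by
      have h3 := Scheme.preimage_basicOpen_top x.left σ
      constructor
      · intro h; rw [← h3] at h; exact h
      · intro h; rw [← h3]; exact h
    rw [h1]
    have h2 : (Spec (CommRingCat.of T)).basicOpen σ = PrimeSpectrum.basicOpen a := basicOpen_eq_of_affine _
    rw [h2]
    exact ⟨fun h h' => h' (h rfl), fun h z hz => hz ▸ not_not.1 h⟩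
  have hpre : Points.ofPt e ⁻¹' (Points.ofPt e '' Z) = Z := by
    refine Set.Subset.antisymm ?_ (Set.subset_preimage_image _ _)
    rintro v' ⟨v, hv, hvv⟩
    obtain ⟨P, x, y, sqP⟩ := exists_isPullback he.1 e
    obtain ⟨w, rfl, rfl⟩ := (ofPt_eq_iff sqP v v').1 hvv
    rw [hmem] at hv ⊢
    rwa [← key x y sqP.w]
  have hC : IsClosed (Points.ofPt e '' Z) := by
    rw [← (isQuotientMap_ofPt he hes).isClosed_preimage, hpre]
    exact PrimeSpectrum.isClosed_zeroLocus _
  obtain ⟨J, hJ⟩ := (PrimeSpectrum.isClosed_iff_zeroLocus_ideal _).1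
    (huc _ hC : IsClosed (X := PrimeSpectrum D) _)
  have himg : ∀ v ∈ Z, (algMap r D iR).left v ∈ img f g (Points.ofPt e '' Z) := by
    intro v hv
    refine ⟨_, ⟨v, hv, rfl⟩, ?_⟩
    rw [Points.map_ofPt, he₂, ← Category.comp_id ((yon S).map _), ofPt_comp]
  have hJtop : J ⊔ Ideal.span {Polynomial.X} = ⊤ := by
    by_contra hne
    obtain ⟨m, hm, hle⟩ := Ideal.exists_le_maximal _ hne
    have hmJ : (⟨m, hm.isPrime⟩ : PrimeSpectrum D) ∈ img f g (Points.ofPt e '' Z) :=
      (Set.ext_iff.1 hJ _).2 (fun z hz => hle (Ideal.mem_sup_left hz))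
    obtain ⟨_, ⟨v, hv, rfl⟩, hvm⟩ := hmJ
    rw [Points.map_ofPt, he₂, ← Category.comp_id ((yon S).map _), ofPt_comp] at hvm
    have hX : iR Polynomial.X ∈ (v : PrimeSpectrum T).asIdeal := by
      have := congrArg PrimeSpectrum.asIdeal (ofPt_id_injective hvm)
      exact this.ge (hle (Ideal.mem_sup_right (Ideal.subset_span rfl)))
    refine (v : PrimeSpectrum T).isPrime.ne_top ((Ideal.eq_top_iff_one _).2 ?_)
    have : (1 : T) = iR Polynomial.X * iL b₀ - a := (sub_sub_cancel _ _).symm
    rw [this]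
    exact sub_mem (Ideal.mul_mem_right _ _ hX) (hv rfl)
  obtain ⟨q, hq, t, ht, hqt⟩ := Submodule.mem_sup.1 ((Ideal.eq_top_iff_one _).1 hJtop)
  obtain ⟨n, hn⟩ : iR q ∈ (Ideal.span {a}).radical := by
    rw [← PrimeSpectrum.vanishingIdeal_zeroLocus_eq_radical, PrimeSpectrum.mem_vanishingIdeal]
    intro v hv
    rw [PrimeSpectrum.zeroLocus_span] at hv
    exact (Set.ext_iff.1 hJ _).1 (himg v hv) hq
  let Bb := Localization.Away b₀
  let ν : Bb := IsLocalization.Away.invSelf (S := Bb) b₀
  let θ : T →ₐ[R] Bb := Algebra.TensorProduct.lift (IsScalarTower.toAlgHom R B Bb) (Polynomial.aeval ν)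
    (fun _ _ => Commute.all _ _)
  obtain ⟨d, hd⟩ := Ideal.mem_span_singleton'.1 hn
  have hR : ∀ z : D, θ (iR z) = Polynomial.aeval ν z := fun z => by
    show θ (1 ⊗ₜ[R] z) = _
    rw [Algebra.TensorProduct.lift_tmul, map_one, one_mul]
  have hL : θ (iL b₀) = algebraMap B Bb b₀ := by
    show θ (b₀ ⊗ₜ[R] (1 : D)) = _
    rw [Algebra.TensorProduct.lift_tmul, map_one, mul_one]
    rfl
  have hθa : θ a = 0 := by
    rw [show a = iR Polynomial.X * iL b₀ - 1 from rfl, map_sub, map_mul, map_one, hR, hL, Polynomial.aeval_X,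
      mul_comm, IsLocalization.Away.mul_invSelf, sub_self]
  have hev : Polynomial.aeval ν (q ^ n) = 0 := by
    rw [← hR, map_pow iR, ← hd, map_mul, hθa, mul_zero]
  refine exists_monic_of_inverse (algebraMap R B) b₀ (q ^ n) ?_ Bb ?_
  · obtain ⟨t', rfl⟩ := Ideal.mem_span_singleton'.1 ht
    have : q.coeff 0 = 1 := by simpa using congrArg (fun z => Polynomial.coeff z 0) hqt
    rw [Polynomial.coeff_zero_eq_eval_zero] at this ⊢
    rw [Polynomial.eval_pow, this, one_pow]
  · rw [← IsScalarTower.algebraMap_eq R B Bb]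
    exact hev

end Groth.Agent.AlgSpGsectInt
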